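import Cfsg.Agent.Known.UnipCentGU.Herm
import Cfsg.Agent.Known.UnipotentCentGL

/-! The adjoint in coordinates on the commutant of a sum of chains. -/

set_option autoImplicit false
set_option linter.style.haveILetI false
set_option linter.unusedSectionVars false
set_option maxHeartbeats 1000000

open Matrix

namespace Cfsg.Lib.UnipCentGU

open Cfsg.Lib.UnitaryConj Cfsg.Lib.UnipCentGL

variable {K : Type*} [Field K] {σ : K →+* K} {t : ℕ} {d : Fin t → ℕ}

variable (d) in
/-- Transposition of coordinates. -/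
def flip (z : Pos d) : Pos d :=
  ⟨(z.1.2.1, ⟨z.1.1, ⟨(z.1.2.2 : ℕ) + d z.1.1 - d z.1.2.1, by have := z.1.2.2.isLt; have := z.2; omega⟩⟩), by
    have := z.2; have := z.1.2.2.isLt
    show d z.1.1 ≤ (z.1.2.2 : ℕ) + d z.1.1 - d z.1.2.1 + d z.1.2.1
    omega⟩

theorem flip_flip (z : Pos d) : flip d (flip d z) = z := by
  obtain ⟨⟨k, ⟨l, x⟩⟩, hz⟩ := z
  refine Subtype.ext (Prod.ext rfl (mk_eq ?_))
  show (x : ℕ) + d k - d l + d l - d k = x
  have := x.isLt
  dsimp only at hz
  omega

variable (σ) in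
/-- The adjoint on coordinates. -/
def adj (w : Pos d → K) : Pos d → K := fun z => σ (w (flip d z))

theorem toMat_rev (w : Pos d → K) (a b : Σ k, Fin (d k)) :
    σ (toMat w (rev d b) (rev d a)) = toMat (adj σ w) a b := by
  obtain ⟨l, x⟩ := a
  obtain ⟨k, y⟩ := b
  have hx := x.isLt
  have hy := y.isLt
  simp only [toMat, Matrix.of_apply, rev, Equiv.sigmaCongrRight_apply, Fin.revPerm_apply, Fin.val_rev]
  by_cases h1 : (y : ℕ) ≤ x
  · rw [if_pos h1]
    by_cases h2 : d l - ((x : ℕ) + 1) ≤ d k - ((y : ℕ) + 1)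
    · rw [if_pos h2, coef, coef]
      by_cases h3 : d l ≤ (x : ℕ) - y + d k
      · rw [dif_pos (show d k ≤ d k - ((y : ℕ) + 1) - (d l - ((x : ℕ) + 1)) + d l by omega), dif_pos h3]
        show _ = σ (w _)
        congr 2
        refine Subtype.ext (Prod.ext rfl (mk_eq ?_))
        show d k - ((y : ℕ) + 1) - (d l - ((x : ℕ) + 1)) = (x : ℕ) - y + d k - d l
        omega
      · exfalso; omega
    · rw [if_neg h2, map_zero, coef]
      rw [dif_neg (show ¬ d l ≤ (x : ℕ) - y + d k by omega)]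
  · rw [if_neg h1]
    split_ifs with h2
    · rw [coef, dif_neg (show ¬ d k ≤ d k - ((y : ℕ) + 1) - (d l - ((x : ℕ) + 1)) + d l by omega), map_zero]
    · rw [map_zero]

theorem cst_form_toMat (w : Pos d → K) :
    cst σ (formOf K d * toMat w) = formOf K d * toMat (adj σ w) := by
  ext a b
  rw [cst, transpose_apply, map_apply, form_mul, form_mul, ← toMat_rev, rev_rev]

/-- Splitting the coordinates into the square blocks and the rest. -/
theorem card_hermitian_units [Fintype K] (hσ : ∀ a, σ (σ a) = a) (hne : ∃ a, σ a ≠ a) {q : ℕ}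
    (hK : Fintype.card K = q ^ 2) (hd : ∀ k, 1 ≤ d k) :
    Nat.card {w : Pos d → K // IsUnit (toMat w) ∧ adj σ w = w} =
      q ^ ((∑ k, ∑ l, min (d k) (d l)) - ∑ k, (Finset.univ.filter fun l => d l = d k).card) *
        ∏ a ∈ Finset.range (Finset.univ.sup d + 1),
          Nat.card (Herm σ (1 : Matrix {k : Fin t // OrderDual.toDual (d k) = OrderDual.toDual a}
            {k : Fin t // OrderDual.toDual (d k) = OrderDual.toDual a} K)) := by
  classical
  let R := Finset.range (Finset.univ.sup d + 1)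
  have hR : ∀ k, d k ∈ R := fun k => Finset.mem_range.2 (Nat.lt_succ_of_le (Finset.le_sup (Finset.mem_univ k)))
  let blk : ℕ → Type := fun a => {k : Fin t // OrderDual.toDual (d k) = OrderDual.toDual a}
  let P0 := {z : Pos d // IsTopPos d z}
  let P1 := {z : Pos d // ¬ IsTopPos d z}
  let e0 : (Σ a : R, blk a × blk a) ≃ P0 :=
    { toFun := fun s => ⟨⟨(s.2.2.1, ⟨s.2.1.1, ⟨0, hd _⟩⟩), by
          show d s.2.1.1 ≤ 0 + d s.2.2.1
          rw [OrderDual.toDual.injective s.2.1.2, OrderDual.toDual.injective s.2.2.2, zero_add]⟩,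
        (OrderDual.toDual.injective s.2.2.2).trans (OrderDual.toDual.injective s.2.1.2).symm, rfl⟩
      invFun := fun z => ⟨⟨d z.1.1.1, hR _⟩, ⟨z.1.1.2.1, congrArg OrderDual.toDual z.2.1.symm⟩, ⟨z.1.1.1, rfl⟩⟩
      left_inv := fun s => by
        obtain ⟨⟨a, ha⟩, ⟨x, hx⟩, ⟨y, hy⟩⟩ := s
        obtain rfl : d y = a := OrderDual.toDual.injective hy
        rfl
      right_inv := fun z => by
        obtain ⟨⟨⟨k, ⟨a, x⟩⟩, hz⟩, h1, h2⟩ := z
        exact Subtype.ext (Subtype.ext (Prod.ext rfl (mk_eq h2.symm))) }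
  have hflip0 : ∀ z : Pos d, IsTopPos d z → IsTopPos d (flip d z) := fun z hz => by
    refine ⟨hz.1.symm, ?_⟩
    show (z.1.2.2 : ℕ) + d z.1.1 - d z.1.2.1 = 0
    rw [hz.2, hz.1]; omega
  have hflip1 : ∀ z : Pos d, ¬ IsTopPos d z → ¬ IsTopPos d (flip d z) := fun z hz h =>
    hz (flip_flip z ▸ hflip0 _ h)
  have hflipe : ∀ (a : R) (x y : blk a), flip d (e0 ⟨a, x, y⟩).1 = (e0 ⟨a, y, x⟩).1 := fun a x y => by
    refine Subtype.ext (Prod.ext rfl (mk_eq ?_))
    show 0 + d y.1 - d x.1 = 0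
    rw [OrderDual.toDual.injective x.2, OrderDual.toDual.injective y.2]; omega
  have hdet : ∀ w : Pos d → K, IsUnit (toMat w) ↔
      ∀ a : R, (Matrix.of fun x y : blk a => w (e0 ⟨a, x, y⟩).1).det ≠ 0 := by
    intro w
    rw [isUnit_iff hd]
    have heq : ∀ a : ℕ, ∀ ha : a ∈ R, (socle hd w).toSquareBlock (fun k => OrderDual.toDual (d k)) (OrderDual.toDual a) =
        Matrix.of fun x y : blk a => w (e0 ⟨⟨a, ha⟩, x, y⟩).1 := by
      intro a ha
      ext x y
      have hxy : d y.1 = d x.1 := (OrderDual.toDual.injective y.2).trans (OrderDual.toDual.injective x.2).symm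
      show socle hd w x.1 y.1 = _
      rw [socle_apply, dif_pos hxy.le]
      congr 1
      exact Subtype.ext (Prod.ext rfl (mk_eq (by show d x.1 - d y.1 = 0; omega)))
    refine ⟨fun h a => by rw [← heq a a.2]; exact h a, fun h a => ?_⟩
    by_cases ha : a ∈ R
    · rw [heq a ha]; exact h ⟨a, ha⟩
    · haveI : IsEmpty {k // OrderDual.toDual (d k) = OrderDual.toDual a} :=
        ⟨fun k => ha (OrderDual.toDual.injective k.2 ▸ hR k.1)⟩
      rw [Matrix.det_isEmpty]
      exact one_ne_zero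
  let π1 : P1 → P1 := fun z => ⟨flip d z.1, hflip1 _ z.2⟩
  have key : Nat.card {w : Pos d → K // IsUnit (toMat w) ∧ adj σ w = w} =
      Nat.card ((∀ a : R, Herm σ (1 : Matrix (blk a) (blk a) K)) × {f : P1 → K // ∀ z, σ (f (π1 z)) = f z}) := by
    let tw : (∀ a : R, Herm σ (1 : Matrix (blk a) (blk a) K)) × {f : P1 → K // ∀ z, σ (f (π1 z)) = f z} →
        Pos d → K := fun p z =>
      if h : IsTopPos d z then (p.1 (e0.symm ⟨z, h⟩).1).1 (e0.symm ⟨z, h⟩).2.1 (e0.symm ⟨z, h⟩).2.2
      else p.2.1 ⟨z, h⟩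
    have htw0 : ∀ p (a : R) (x y : blk a), tw p (e0 ⟨a, x, y⟩).1 = (p.1 a).1 x y := fun p a x y => by
      simp only [tw]
      rw [dif_pos (e0 ⟨a, x, y⟩).2]
      have e : e0.symm ⟨(e0 ⟨a, x, y⟩).1, (e0 ⟨a, x, y⟩).2⟩ = ⟨a, x, y⟩ := e0.symm_apply_apply _
      rw [e]
    refine (Nat.card_eq_of_bijective (fun p => (⟨tw p, ?_, ?_⟩ : {w : Pos d → K // IsUnit (toMat w) ∧ adj σ w = w})) ⟨?_, ?_⟩).symm
    · refine (hdet _).2 fun a => ?_
      rw [show (Matrix.of fun x y : blk a => tw p (e0 ⟨a, x, y⟩).1) = (p.1 a).1 from by ext x y; exact htw0 p a x y]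
      exact (p.1 a).2.2.1
    · funext z
      by_cases h : IsTopPos d z
      · obtain ⟨⟨a, x, y⟩, hs⟩ := e0.surjective ⟨z, h⟩
        have hz : z = (e0 ⟨a, x, y⟩).1 := (congrArg Subtype.val hs).symm
        rw [hz, adj, hflipe, htw0, htw0]
        exact congrFun (congrFun (p.1 a).2.1 x) y
      · rw [adj]
        simp only [tw]
        rw [dif_neg (hflip1 z h), dif_neg h]
        exact p.2.2 ⟨z, h⟩
    · intro p p' h
      have h' : tw p = tw p' := congrArg Subtype.val h
      refine Prod.ext (funext fun a => Subtype.ext (Matrix.ext fun x y => ?_)) (Subtype.ext (funext fun z => ?_))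
      · rw [← htw0 p a x y, ← htw0 p' a x y, h']
      · have := congrFun h' z.1
        simp only [tw] at this
        rw [dif_neg z.2, dif_neg z.2] at this
        exact this
    · rintro ⟨w, hu, hw⟩
      refine ⟨(fun a => ⟨Matrix.of fun x y : blk a => w (e0 ⟨a, x, y⟩).1, ?_, (hdet w).1 hu a, by rw [mul_one, one_mul]⟩,
        ⟨fun z => w z.1, fun z => congrFun hw z.1⟩), Subtype.ext (funext fun z => ?_)⟩
      · ext x y
        show σ (w (e0 ⟨a, y, x⟩).1) = w (e0 ⟨a, x, y⟩).1
        rw [← hflipe a x y]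
        exact congrFun hw _
      · by_cases h : IsTopPos d z
        · obtain ⟨⟨a, x, y⟩, hs⟩ := e0.surjective ⟨z, h⟩
          have hz : z = (e0 ⟨a, x, y⟩).1 := (congrArg Subtype.val hs).symm
          rw [hz]
          exact htw0 _ a x y
        · simp only [tw]
          rw [dif_neg h]
  have hblk : ∀ a : ℕ, Fintype.card (blk a) = (Finset.univ.filter fun l => d l = a).card := fun a => by
    rw [Fintype.card_subtype]
    simp
  have hc0 : Nat.card P0 = ∑ k, (Finset.univ.filter fun l => d l = d k).card := by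
    rw [← Nat.card_congr e0, Nat.card_sigma,
      ← Finset.sum_fiberwise_of_maps_to' (fun k _ => hR k) (fun a => (Finset.univ.filter fun l => d l = a).card),
      ← Finset.sum_coe_sort R]
    refine Finset.sum_congr rfl fun a _ => ?_
    rw [Nat.card_prod, Nat.card_eq_fintype_card, hblk, Finset.sum_const, smul_eq_mul]
  have hP : Nat.card (Pos d) = ∑ k, ∑ l, min (d k) (d l) := by
    rw [Nat.card_congr (Equiv.subtypeProdEquivSigmaSubtype
      (fun (k : Fin t) (y : Σ k, Fin (d k)) => d y.1 ≤ (y.2 : ℕ) + d k)), Nat.card_sigma]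
    refine Finset.sum_congr rfl fun k _ => ?_
    rw [Nat.card_congr (show {y : Σ l, Fin (d l) // d y.1 ≤ (y.2 : ℕ) + d k} ≃ Σ l, {x : Fin (d l) // d l ≤ (x : ℕ) + d k} from
      { toFun := fun y => ⟨y.1.1, y.1.2, y.2⟩
        invFun := fun s => ⟨⟨s.1, s.2.1⟩, s.2.2⟩
        left_inv := fun y => rfl
        right_inv := fun s => rfl }), Nat.card_sigma]
    refine Finset.sum_congr rfl fun l _ => ?_
    rw [Nat.card_congr (show {x : Fin (d l) // d l ≤ (x : ℕ) + d k} ≃ Fin (min (d k) (d l)) from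
      { toFun := fun x => ⟨d l - 1 - x.1, by have := x.1.isLt; have := x.2; omega⟩
        invFun := fun z => ⟨⟨d l - 1 - z, by have := z.isLt; omega⟩, by
          have := z.isLt; show d l ≤ d l - 1 - (z : ℕ) + d k; omega⟩
        left_inv := fun x => Subtype.ext (Fin.ext (by
          have := x.1.isLt; show d l - 1 - (d l - 1 - (x.1 : ℕ)) = x.1; omega))
        right_inv := fun z => Fin.ext (by
          have := z.isLt; show d l - 1 - (d l - 1 - (z : ℕ)) = z; omega) }), Nat.card_fin]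
  have hsplit : Nat.card (Pos d) = Nat.card P0 + Nat.card P1 := by
    rw [← Nat.card_sum]
    exact Nat.card_congr (Equiv.sumCompl _).symm
  rw [key, Nat.card_prod, Nat.card_pi, card_fixed_fun π1 (fun z => Subtype.ext (flip_flip z.1)) hσ hne
    (by rw [Nat.card_eq_fintype_card, hK]), mul_comm]
  congr 1
  · congr 1; omega
  · exact Finset.prod_coe_sort R fun a => Nat.card (Herm σ (1 : Matrix (blk a) (blk a) K))

end Cfsg.Lib.UnipCentGU
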