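import Cfsg.Agent.Known.UnitaryGU
import Cfsg.Agent.Classical.Unitary.Matrix

/-! Counting unitary elements of a centraliser through its invertible hermitian elements. -/

set_option autoImplicit false
set_option linter.style.haveILetI false
set_option linter.unusedSectionVars false

open Matrix

namespace Cfsg.Lib.UnipCentGU

open Cfsg.Lib.UnitaryConj

variable {K : Type*} [Field K] [Finite K] (σ : K →+* K) {ι : Type*} [Fintype ι] [DecidableEq ι]

/-- Unitary matrices commuting with `u`. -/
abbrev Uni (u : Matrix ι ι K) : Type _ := {g : Matrix ι ι K // cst σ g * g = 1 ∧ g * u = u * g}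

/-- Invertible hermitian matrices commuting with `u`. -/
abbrev Herm (u : Matrix ι ι K) : Type _ := {M : Matrix ι ι K // cst σ M = M ∧ M.det ≠ 0 ∧ M * u = u * M}

/-- Invertible matrices commuting with `u`. -/
abbrev Cent (u : Matrix ι ι K) : Type _ := {g : Matrix ι ι K // g.det ≠ 0 ∧ g * u = u * g}

variable {σ}

theorem card_cent (hσ : ∀ a, σ (σ a) = a) (hne : ∃ a, σ a ≠ a) {u : Matrix ι ι K} (hu : cst σ u * u = 1) :
    Nat.card (Cent u) = Nat.card (Uni σ u) * Nat.card (Herm σ u) := by
  classical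
  have hu' : u * cst σ u = 1 := mul_eq_one_comm.1 hu
  -- the adjoint of a commuting matrix commutes
  have hadj : ∀ g : Matrix ι ι K, g * u = u * g → cst σ g * u = u * cst σ g := fun g hg => by
    have h1 : cst σ u * cst σ g = cst σ g * cst σ u := by rw [← cst_mul, ← cst_mul, hg]
    calc cst σ g * u = u * (cst σ u * cst σ g) * u := by rw [← mul_assoc, hu', one_mul]
      _ = u * (cst σ g * (cst σ u * u)) := by rw [h1]; simp only [mul_assoc]
      _ = u * cst σ g := by rw [hu, mul_one]
  have hherm : ∀ g : Cent u, ∃ M : Herm σ u, (M : Matrix ι ι K) = cst σ (g : Matrix ι ι K) * g := fun g =>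
    ⟨⟨_, by rw [cst_mul, cst_cst σ hσ], by
      rw [det_mul, det_cst]; exact mul_ne_zero (by simpa using g.2.1) g.2.1, by
      rw [mul_assoc, g.2.2, ← mul_assoc, hadj _ g.2.2, mul_assoc]⟩, rfl⟩
  choose f hf using hherm
  have hroot : ∀ M : Herm σ u, ∃ x : Cent u, cst σ (x : Matrix ι ι K) * x = M := fun M => by
    obtain ⟨x, hx0, -, hx, hxc⟩ := exists_root hσ hne (M : Matrix ι ι K) M.2.1 M.2.2.1
    exact ⟨⟨x, hx0, ((hxc u (M.2.2.2).symm).eq).symm⟩, hx⟩
  choose r hr using hroot
  rw [← Nat.card_prod]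
  have hunit : ∀ x : Cent u, IsUnit (x : Matrix ι ι K).det := fun x => isUnit_iff_ne_zero.2 x.2.1
  have hinv : ∀ x : Cent u, (x : Matrix ι ι K)⁻¹ * u = u * (x : Matrix ι ι K)⁻¹ := fun x => by
    calc (x : Matrix ι ι K)⁻¹ * u = (x : Matrix ι ι K)⁻¹ * (u * x) * (x : Matrix ι ι K)⁻¹ := by
          rw [mul_assoc (x : Matrix ι ι K)⁻¹, mul_assoc u, mul_nonsing_inv _ (hunit x), mul_one]
      _ = u * (x : Matrix ι ι K)⁻¹ := by
          rw [← x.2.2, ← mul_assoc (x : Matrix ι ι K)⁻¹, nonsing_inv_mul _ (hunit x), one_mul]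
  let toFun : Cent u → Uni σ u × Herm σ u := fun g =>
    (⟨(g : Matrix ι ι K) * ((r (f g) : Cent u) : Matrix ι ι K)⁻¹, by
      have h1 := hr (f g)
      rw [hf g] at h1
      have h2 := hunit (r (f g))
      rw [cst_mul, mul_assoc, ← mul_assoc (cst σ (g : Matrix ι ι K)), ← h1, mul_assoc (cst σ _) _ _,
        mul_nonsing_inv _ h2, mul_one, ← cst_mul, mul_nonsing_inv _ h2, cst_one], by
      rw [mul_assoc, hinv, ← mul_assoc, g.2.2, mul_assoc]⟩, f g)
  let inv : Uni σ u × Herm σ u → Cent u := fun p =>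
    ⟨(p.1 : Matrix ι ι K) * ((r p.2 : Cent u) : Matrix ι ι K), by
      rw [det_mul]
      refine mul_ne_zero (fun h => ?_) (r p.2).2.1
      have := congrArg Matrix.det p.1.2.1
      rw [det_mul, h, mul_zero, det_one] at this
      exact zero_ne_one this, by
      rw [mul_assoc, (r p.2).2.2, ← mul_assoc, p.1.2.2, mul_assoc]⟩
  refine Nat.card_congr
    { toFun := toFun
      invFun := inv
      left_inv := fun g => Subtype.ext (by
        show (g : Matrix ι ι K) * ((r (f g) : Cent u) : Matrix ι ι K)⁻¹ * (r (f g) : Matrix ι ι K) = g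
        rw [mul_assoc, nonsing_inv_mul _ (hunit _), mul_one])
      right_inv := fun p => by
        have e : f (inv p) = p.2 := Subtype.ext (by
          rw [hf]
          show cst σ ((p.1 : Matrix ι ι K) * (r p.2 : Matrix ι ι K)) * ((p.1 : Matrix ι ι K) * (r p.2 : Matrix ι ι K)) = _
          rw [cst_mul, mul_assoc, ← mul_assoc (cst σ (p.1 : Matrix ι ι K)), p.1.2.1, one_mul, hr])
        refine Prod.ext (Subtype.ext ?_) e
        show (p.1 : Matrix ι ι K) * (r p.2 : Matrix ι ι K) * ((r (f (inv p)) : Cent u) : Matrix ι ι K)⁻¹ = p.1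
        rw [e, mul_assoc, mul_nonsing_inv _ (hunit _), mul_one] }

omit [Fintype ι] [DecidableEq ι] in
/-- Hermitian coordinate vectors for an involution of a finite index type. -/
theorem card_fixed_fun {P : Type*} [Finite P] (π : P → P) (hπ : ∀ z, π (π z) = z) {q : ℕ}
    (hσ : ∀ a, σ (σ a) = a) (hne : ∃ a, σ a ≠ a) (hK : Nat.card K = q ^ 2) :
    Nat.card {f : P → K // ∀ z, σ (f (π z)) = f z} = q ^ Nat.card P := by
  obtain ⟨c, hc⟩ := hne
  have hd : c - σ c ≠ 0 := sub_ne_zero.2 (Ne.symm hc)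
  let H := {f : P → K // ∀ z, σ (f (π z)) = f z}
  let g : H × H → (P → K) := fun p z => p.1.1 z + c * p.2.1 z
  have hg : Function.Bijective g := by
    constructor
    · rintro ⟨a, b⟩ ⟨a', b'⟩ h
      have key : ∀ z, a.1 z + c * b.1 z = a'.1 z + c * b'.1 z := congrFun h
      have hb : ∀ z, b.1 z = b'.1 z := fun z => by
        have h1 := key z
        have h2 := congrArg σ (key (π z))
        simp only [map_add, map_mul, a.2, b.2, a'.2, b'.2] at h2
        exact sub_eq_zero.1 ((mul_eq_zero.1 (show (c - σ c) * (b.1 z - b'.1 z) = 0 by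
          linear_combination h1 - h2)).resolve_left hd)
      refine Prod.ext (Subtype.ext (funext fun z => ?_)) (Subtype.ext (funext hb))
      linear_combination key z - c * hb z
    · intro w
      let h2 : P → K := fun z => (w z - σ (w (π z))) / (c - σ c)
      have e2 : ∀ z, σ (h2 (π z)) = h2 z := fun z => by
        simp only [h2, map_div₀, map_sub, hσ, hπ]
        rw [← neg_sub (w z), ← neg_sub c, neg_div_neg_eq]
      have key : ∀ z, h2 z * (c - σ c) = w z - σ (w (π z)) := fun z => div_mul_cancel₀ _ hd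
      refine ⟨(⟨fun z => w z - c * h2 z, fun z => ?_⟩, ⟨h2, e2⟩), funext fun z => ?_⟩
      · simp only [map_sub, map_mul, e2]
        linear_combination key z
      · show w z - c * h2 z + c * h2 z = w z
        ring
  have h1 := Nat.card_eq_of_bijective g hg
  rw [Nat.card_prod, Nat.card_fun, hK, ← pow_mul, mul_comm 2, pow_mul, ← sq] at h1
  exact Nat.pow_left_injective two_ne_zero h1

theorem cst_reindex {κ : Type*} [Fintype κ] [DecidableEq κ] (e : ι ≃ κ) (M : Matrix ι ι K) :
    cst σ (Matrix.reindex e e M) = Matrix.reindex e e (cst σ M) := rfl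

/-- Unitary matrices commuting with `u`, renumbered. -/
theorem card_uni_reindex {κ : Type*} [Fintype κ] [DecidableEq κ] (e : ι ≃ κ) (u : Matrix ι ι K) :
    Nat.card (Uni σ (Matrix.reindex e e u)) = Nat.card (Uni σ u) := by
  let φ := Matrix.reindexAlgEquiv K K e
  refine (Nat.card_congr (Equiv.subtypeEquiv φ.toEquiv fun g => ?_)).symm
  show cst σ g * g = 1 ∧ g * u = u * g ↔ cst σ (φ g) * φ g = 1 ∧ φ g * φ u = φ u * φ g
  rw [show cst σ (φ g) = φ (cst σ g) from rfl, ← map_mul, ← map_mul, ← map_mul, φ.injective.eq_iff' (map_one φ),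
    φ.injective.eq_iff]

theorem card_uni_one {q : ℕ} [Fintype K] (hK : Fintype.card K = q ^ 2) (ι' : Type*) [Fintype ι'] [DecidableEq ι'] :
    Nat.card (Uni (Cfsg.Lib.Classical.powConj hK) (1 : Matrix ι' ι' K)) =
      Cfsg.Lib.Classical.cardGUFormula q (Fintype.card ι') := by
  rw [← card_uni_reindex (Fintype.equivFin ι') (1 : Matrix ι' ι' K),
    ← Cfsg.Lib.Classical.card_GU hK (Fintype.card ι')]
  have h1 : Matrix.reindex (Fintype.equivFin ι') (Fintype.equivFin ι') (1 : Matrix ι' ι' K) = 1 := by simp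
  rw [h1]
  refine Nat.card_congr
    { toFun := fun g => ⟨⟨g.1, cst (Cfsg.Lib.Classical.powConj hK) g.1, mul_eq_one_comm.1 g.2.1, g.2.1⟩,
        (mem_GU hK _).2 g.2.1⟩
      invFun := fun g => ⟨((g : GL (Fin (Fintype.card ι')) K) : Matrix (Fin (Fintype.card ι')) (Fin (Fintype.card ι')) K),
        (mem_GU hK (g : GL (Fin (Fintype.card ι')) K)).1 g.2, by rw [mul_one, one_mul]⟩
      left_inv := fun g => rfl
      right_inv := fun g => Subtype.ext (Units.ext rfl) }

end Cfsg.Lib.UnipCentGU
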