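import Cfsg.Agent.Known.UnipCentGU.Coords

/-! Centraliser orders of unipotent elements of unitary groups. -/

set_option autoImplicit false
set_option linter.style.haveILetI false
set_option linter.unusedSectionVars false
set_option maxHeartbeats 1000000

open Matrix

namespace Cfsg.Lib.UnipCentGU

open Cfsg.Lib.UnitaryConj Cfsg.Lib.UnipCentGL Cfsg.Lib.Classical

variable {K : Type*} [Field K] [Fintype K] {t : ℕ} {d : Fin t → ℕ}

theorem jordan_eq : Cfsg.jordanTypeMatrix d K = 1 + UnipClasses.J d := by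
  ext ⟨a, x⟩ ⟨b, y⟩
  by_cases h : a = b
  · subst h
    simp [Cfsg.jordanTypeMatrix, SympJordan.jordanBlock_eq, SympJordan.shiftBlock, UnipClasses.J, Matrix.one_apply,
      Sigma.ext_iff]
  · simp [Cfsg.jordanTypeMatrix, UnipClasses.J, Matrix.one_apply, Sigma.ext_iff, h,
      Matrix.blockDiagonal'_apply_ne (fun k => Cfsg.jordanBlock (d k) K) x y h]

theorem exponent_eq (hd : ∀ k, 1 ≤ d k) :
    (∑ k, ∑ l, min (d k) (d l)) - ∑ k, (Finset.univ.filter fun l => d l = d k).card =
      2 * (∑ i ∈ Finset.range (Finset.univ.sup d + 1), ∑ j ∈ Finset.range (Finset.univ.sup d + 1),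
          if i < j then i * (Finset.univ.filter (fun k : Fin t => d k = i)).card *
            (Finset.univ.filter (fun k : Fin t => d k = j)).card else 0) +
          ∑ i ∈ Finset.range (Finset.univ.sup d + 1), (i - 1) * (Finset.univ.filter (fun k : Fin t => d k = i)).card ^ 2 := by
  classical
  set R := Finset.range (Finset.univ.sup d + 1) with hRdef
  set c : ℕ → ℕ := fun i => (Finset.univ.filter fun k : Fin t => d k = i).card with hc
  have hR : ∀ k, d k ∈ R := fun k => Finset.mem_range.2 (Nat.lt_succ_of_le (Finset.le_sup (Finset.mem_univ k)))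
  have hfib : ∀ f : ℕ → ℕ, ∑ k, f (d k) = ∑ i ∈ R, c i * f i := fun f => by
    rw [← Finset.sum_fiberwise_of_maps_to' (fun k _ => hR k) f]
    exact Finset.sum_congr rfl fun i _ => by rw [Finset.sum_const, smul_eq_mul]
  have hc0 : c 0 = 0 := by
    simp only [hc, Finset.card_eq_zero, Finset.filter_eq_empty_iff]
    intro k _ h
    have := hd k
    omega
  have hpair : ∀ i j, c i * (c j * min i j) =
      (if i < j then i * c i * c j else 0) + (if j < i then j * c j * c i else 0) + (if i = j then i * c i ^ 2 else 0) := by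
    intro i j
    rcases lt_trichotomy i j with h | rfl | h
    · rw [if_pos h, if_neg (by omega), if_neg h.ne, min_eq_left h.le]; ring
    · simp only [lt_irrefl, if_false, if_true, zero_add, min_self]; ring
    · rw [if_pos h, if_neg (by omega), if_neg h.ne', min_eq_right h.le]; ring
  rw [hfib (fun a => ∑ l, min a (d l)), hfib (fun a => c a),
    Finset.sum_congr rfl (fun i _ => show c i * ∑ l, min i (d l) = ∑ j ∈ R, c i * (c j * min i j) by
      rw [hfib (fun b => min i b), Finset.mul_sum]),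
    Finset.sum_congr rfl (fun i _ => Finset.sum_congr rfl fun j _ => hpair i j)]
  simp only [Finset.sum_add_distrib, Finset.sum_ite_eq]
  rw [Finset.sum_comm (f := fun i j => if j < i then j * c j * c i else 0),
    Finset.sum_congr rfl (fun i (hi : i ∈ R) => if_pos hi)]
  have e1 : ∑ i ∈ R, i * c i ^ 2 = ∑ i ∈ R, (i - 1) * c i ^ 2 + ∑ i ∈ R, c i * c i := by
    rw [← Finset.sum_add_distrib]
    refine Finset.sum_congr rfl fun i _ => ?_
    rcases Nat.eq_zero_or_pos i with rfl | hi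
    · simp [hc0]
    · obtain ⟨j, rfl⟩ : ∃ j, i = j + 1 := ⟨i - 1, by omega⟩
      rw [Nat.add_sub_cancel]; ring
  show _ = (2 * ∑ i ∈ R, ∑ j ∈ R, if i < j then i * c i * c j else 0) + ∑ i ∈ R, (i - 1) * c i ^ 2
  omega

theorem card_uni {q : ℕ} (hK : Fintype.card K = q ^ 2) (hd : ∀ k, 1 ≤ d k)
    (u : Matrix (Σ k, Fin (d k)) (Σ k, Fin (d k)) K) (hu : cst (powConj hK) u * u = 1)
    (hc : IsConj (1 + UnipClasses.J d) u) :
    Nat.card (Uni (powConj hK) u) =
      q ^ ((∑ k, ∑ l, min (d k) (d l)) - ∑ k, (Finset.univ.filter fun l => d l = d k).card) *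
        ∏ a ∈ Finset.range (Finset.univ.sup d + 1), cardGUFormula q (Finset.univ.filter fun l => d l = a).card := by
  classical
  set σ := powConj hK
  have hσ : ∀ a, σ (σ a) = a := invol hK
  obtain ⟨ω, hω⟩ := exists_moved hK
  have hq : 0 < q := by
    rcases Nat.eq_zero_or_pos q with rfl | h
    · exact absurd hK (by simp)
    · exact h
  set J : Matrix (Σ k, Fin (d k)) (Σ k, Fin (d k)) K := UnipClasses.J d with hJ
  set H := formOf K d with hH
  have hJn : IsNilpotent J := ⟨∑ k, d k,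
    UnipClasses.J_pow_eq_zero d fun k => Finset.single_le_sum (f := d) (fun i _ => Nat.zero_le _) (Finset.mem_univ k)⟩
  obtain ⟨P, hP⟩ : IsUnit (1 + ω • J) := (hJn.smul ω).isUnit_one_add
  obtain ⟨Q, hQ⟩ : IsUnit (1 + σ ω • J) := (hJn.smul (σ ω)).isUnit_one_add
  have hcP : cst σ (P : Matrix (Σ k, Fin (d k)) (Σ k, Fin (d k)) K) * H = H * Q := by
    rw [hP, hQ, cst_add, cst_one, cst_smul, add_mul, one_mul, smul_mul_assoc, hJ, hH, cst_J_form, mul_add, mul_one,
      mul_smul_comm]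
  have hcQ : cst σ (Q : Matrix (Σ k, Fin (d k)) (Σ k, Fin (d k)) K) * H = H * P := by
    rw [hP, hQ, cst_add, cst_one, cst_smul, hσ, add_mul, one_mul, smul_mul_assoc, hJ, hH, cst_J_form, mul_add, mul_one,
      mul_smul_comm]
  have hPQ : Commute P Q := Units.ext (by
    rw [Units.val_mul, Units.val_mul, hP, hQ]
    exact ((Commute.one_left _).add_left ((Commute.one_right _).add_right
      (((Commute.refl J).smul_right _).smul_left _))).eq)
  have hcQi : cst σ ((Q⁻¹ : (Matrix (Σ k, Fin (d k)) (Σ k, Fin (d k)) K)ˣ) : Matrix (Σ k, Fin (d k)) (Σ k, Fin (d k)) K) * H =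
      H * ((P⁻¹ : (Matrix (Σ k, Fin (d k)) (Σ k, Fin (d k)) K)ˣ) : Matrix (Σ k, Fin (d k)) (Σ k, Fin (d k)) K) := by
    rw [Units.eq_mul_inv_iff_mul_eq, mul_assoc, ← hcQ, ← mul_assoc, ← cst_mul, Units.mul_inv, cst_one, one_mul]
  set U0 : (Matrix (Σ k, Fin (d k)) (Σ k, Fin (d k)) K)ˣ := P * Q⁻¹ with hU0
  have hform : cst σ (U0 : Matrix (Σ k, Fin (d k)) (Σ k, Fin (d k)) K) * H * (U0 : Matrix (Σ k, Fin (d k)) (Σ k, Fin (d k)) K) = H := by
    rw [hU0, Units.val_mul, cst_mul, mul_assoc (cst σ _) (cst σ (P : Matrix (Σ k, Fin (d k)) (Σ k, Fin (d k)) K)), hcP,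
      ← mul_assoc (cst σ _) H, hcQi]
    have e : P⁻¹ * Q * (P * Q⁻¹) = 1 := by
      calc P⁻¹ * Q * (P * Q⁻¹) = P⁻¹ * (Q * P) * Q⁻¹ := by group
        _ = P⁻¹ * (P * Q) * Q⁻¹ := by rw [hPQ.eq]
        _ = 1 := by group
    have e' := congrArg (fun u : (Matrix (Σ k, Fin (d k)) (Σ k, Fin (d k)) K)ˣ => (u : Matrix (Σ k, Fin (d k)) (Σ k, Fin (d k)) K)) e
    simp only [Units.val_mul, Units.val_one] at e'
    conv_rhs => rw [← mul_one H, ← e']
    simp only [mul_assoc]
  -- `U0 - 1` is `J` times a unit commuting with it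
  set S : Matrix (Σ k, Fin (d k)) (Σ k, Fin (d k)) K :=
    (ω - σ ω) • ((Q⁻¹ : (Matrix (Σ k, Fin (d k)) (Σ k, Fin (d k)) K)ˣ) : Matrix (Σ k, Fin (d k)) (Σ k, Fin (d k)) K) with hS
  have hsub : (U0 : Matrix (Σ k, Fin (d k)) (Σ k, Fin (d k)) K) - 1 = J * S := by
    rw [hU0, Units.val_mul, hS, mul_smul_comm, ← smul_mul_assoc]
    conv_lhs => arg 2; rw [← Units.mul_inv Q]
    rw [← sub_mul, hP, hQ, add_sub_add_left_eq_sub, ← sub_smul]
  have hne' : ω - σ ω ≠ 0 := sub_ne_zero.2 (Ne.symm hω)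
  have hSu : IsUnit S := by
    rw [hS, Algebra.smul_def]
    exact ((isUnit_iff_ne_zero.2 hne').map _).mul (Q⁻¹).isUnit
  have hJS : Commute J S := by
    refine Commute.smul_right (Commute.units_inv_right ?_) _
    rw [hQ]
    exact (Commute.one_right _).add_right ((Commute.refl J).smul_right _)
  have hcomm : ∀ M : Matrix (Σ k, Fin (d k)) (Σ k, Fin (d k)) K, M * J = J * M ↔ M * (U0 : Matrix (Σ k, Fin (d k)) (Σ k, Fin (d k)) K) = (U0 : Matrix (Σ k, Fin (d k)) (Σ k, Fin (d k)) K) * M := by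
    intro M
    constructor
    · intro h
      have h1 : Commute M (1 + ω • J) := (Commute.one_right M).add_right (Commute.smul_right h ω)
      have h2 : Commute M (1 + σ ω • J) := (Commute.one_right M).add_right (Commute.smul_right h (σ ω))
      rw [← hP] at h1
      rw [← hQ] at h2
      rw [hU0, Units.val_mul]
      exact (h1.mul_right h2.units_inv_right).eq
    · intro h
      have hd' : Commute M ((U0 : Matrix (Σ k, Fin (d k)) (Σ k, Fin (d k)) K) - 1) := Commute.sub_right h (Commute.one_right M)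
      have hT : IsUnit (σ ω • (U0 : Matrix (Σ k, Fin (d k)) (Σ k, Fin (d k)) K) - ω • 1) := by
        have e : σ ω • (U0 : Matrix (Σ k, Fin (d k)) (Σ k, Fin (d k)) K) - ω • 1 = (σ ω - ω) • 1 + σ ω • (J * S) := by
          rw [← hsub, sub_smul, smul_sub]; abel
        rw [e]
        refine IsNilpotent.isUnit_add_left_of_commute ((hJS.isNilpotent_mul_right hJn).smul _) ?_ ?_
        · rw [← Algebra.algebraMap_eq_smul_one]
          exact (isUnit_iff_ne_zero.2 (sub_ne_zero.2 hω)).map _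
        · rw [← Algebra.algebraMap_eq_smul_one]
          exact (Algebra.commute_algebraMap_left _ _).symm
      obtain ⟨T, hT'⟩ := hT
      have hJeq : J * (T : Matrix (Σ k, Fin (d k)) (Σ k, Fin (d k)) K) = 1 - (U0 : Matrix (Σ k, Fin (d k)) (Σ k, Fin (d k)) K) := by
        have e : (U0 : Matrix (Σ k, Fin (d k)) (Σ k, Fin (d k)) K) * (1 + σ ω • J) = 1 + ω • J := by
          rw [← hQ, ← hP, hU0, Units.val_mul, mul_assoc, Units.inv_mul, mul_one]
        have hJU : J * (U0 : Matrix (Σ k, Fin (d k)) (Σ k, Fin (d k)) K) = (U0 : Matrix (Σ k, Fin (d k)) (Σ k, Fin (d k)) K) * J := by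
          have h1 : Commute J ((U0 : Matrix (Σ k, Fin (d k)) (Σ k, Fin (d k)) K) - 1) := hsub ▸ (Commute.refl J).mul_right hJS
          have := h1.eq
          rw [mul_sub, sub_mul, mul_one, one_mul, sub_left_inj] at this
          exact this
        rw [hT', mul_sub, mul_smul_comm, mul_smul_comm, mul_one, hJU]
        rw [mul_add, mul_one, mul_smul_comm] at e
        rw [sub_eq_iff_eq_add]
        rw [sub_add_eq_add_sub, ← e]; abel
      have hTc : Commute M (T : Matrix (Σ k, Fin (d k)) (Σ k, Fin (d k)) K) := by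
        rw [hT']
        exact (Commute.smul_right h _).sub_right ((Commute.one_right M).smul_right _)
      have : J = (1 - (U0 : Matrix (Σ k, Fin (d k)) (Σ k, Fin (d k)) K)) * ((T⁻¹ : (Matrix (Σ k, Fin (d k)) (Σ k, Fin (d k)) K)ˣ) : Matrix (Σ k, Fin (d k)) (Σ k, Fin (d k)) K) := by
        rw [← hJeq, mul_assoc, Units.mul_inv, mul_one]
      rw [this]
      exact (((Commute.one_right M).sub_right h).mul_right hTc.units_inv_right).eq
  -- similarity with the given matrix
  have hkc : ∀ j, SympJordan.kc (J ^ j) = SympJordan.kc ((J * S) ^ j) := fun j => by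
    obtain ⟨R, hR⟩ := hSu.pow j
    refine Nat.card_congr (Equiv.subtypeEquivRight fun v => ?_)
    rw [hJS.mul_pow, (hJS.pow_pow j j).eq, ← mulVec_mulVec, ← hR]
    constructor
    · intro h; rw [h, mulVec_zero]
    · intro h
      have := congrArg (fun w => ((R⁻¹ : (Matrix (Σ k, Fin (d k)) (Σ k, Fin (d k)) K)ˣ) : Matrix (Σ k, Fin (d k)) (Σ k, Fin (d k)) K) *ᵥ w) h
      simp only [mulVec_mulVec, ← mul_assoc, Units.inv_mul, one_mul, mulVec_zero] at this
      exact this
  have hsim := SympJordan.similar_of_kc (Equiv.refl _) hJn hkc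
  rw [Matrix.reindex_refl_refl, ← hsub, add_sub_cancel] at hsim
  obtain ⟨X, hX0, -, hX, -⟩ := exists_root hσ ⟨ω, hω⟩ H (cst_form σ d) (fun h => by
    have := congrArg Matrix.det (form_sq (K := K) d)
    rw [det_mul, ← hH, h, det_one, zero_mul] at this
    exact zero_ne_one this)
  have hXu : IsUnit X.det := isUnit_iff_ne_zero.2 hX0
  set U1 := X * (U0 : Matrix (Σ k, Fin (d k)) (Σ k, Fin (d k)) K) * X⁻¹ with hU1
  have hU1u : cst σ U1 * U1 = 1 := by
    calc cst σ U1 * U1 = cst σ X⁻¹ * (cst σ (U0 : Matrix (Σ k, Fin (d k)) (Σ k, Fin (d k)) K) * (cst σ X * X) * U0) * X⁻¹ := by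
          rw [hU1, cst_mul, cst_mul]; simp only [mul_assoc]
      _ = cst σ X⁻¹ * (cst σ X * X) * X⁻¹ := by rw [hX, hform]
      _ = (cst σ X⁻¹ * cst σ X) * (X * X⁻¹) := by simp only [mul_assoc]
      _ = 1 := by rw [← cst_mul, mul_nonsing_inv X hXu, cst_one, one_mul]
  obtain ⟨Xg, hXg⟩ := (Matrix.isUnit_iff_isUnit_det X).2 hXu
  have hU1c : IsConj (U0 : Matrix (Σ k, Fin (d k)) (Σ k, Fin (d k)) K) U1 := ⟨Xg, by
    show (Xg : Matrix (Σ k, Fin (d k)) (Σ k, Fin (d k)) K) * U0 = U1 * Xg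
    rw [hXg, hU1, mul_assoc, nonsing_inv_mul X hXu, mul_one]⟩
  obtain ⟨T, hT⟩ := (hU1c.symm.trans hsim.symm).trans hc
  obtain ⟨R, hR, hRU⟩ := exists_conj hσ ⟨ω, hω⟩ U1 u (T : Matrix (Σ k, Fin (d k)) (Σ k, Fin (d k)) K) hU1u hu
    ((Matrix.isUnit_iff_isUnit_det _).1 T.isUnit).ne_zero hT.eq
  set Y := R * X with hY
  have hYH : cst σ Y * Y = H := by rw [hY, cst_mul, mul_assoc, ← mul_assoc (cst σ R), hR, one_mul, hX]
  have hRu : IsUnit R.det := by
    refine isUnit_iff_ne_zero.2 fun h => ?_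
    have := congrArg Matrix.det hR
    rw [det_mul, h, mul_zero, det_one] at this
    exact zero_ne_one this
  have hYu : IsUnit Y.det := by rw [hY, det_mul]; exact hRu.mul hXu
  have hYU : Y * (U0 : Matrix (Σ k, Fin (d k)) (Σ k, Fin (d k)) K) = u * Y := by
    rw [hY, ← mul_assoc u, ← hRU, mul_assoc R U1 X, hU1, mul_assoc (X * _), nonsing_inv_mul X hXu, mul_one, mul_assoc]
  clear_value Y
  let Yg : (Matrix (Σ k, Fin (d k)) (Σ k, Fin (d k)) K)ˣ :=
    ⟨Y, Y⁻¹, mul_nonsing_inv Y hYu, nonsing_inv_mul Y hYu⟩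
  -- the coordinates
  let ψ : Matrix (Σ k, Fin (d k)) (Σ k, Fin (d k)) K → Matrix (Σ k, Fin (d k)) (Σ k, Fin (d k)) K :=
    fun g => Y * g * Y⁻¹
  have hψdet : ∀ g, (ψ g).det = g.det := fun g => by
    show (Y * g * Y⁻¹).det = g.det
    rw [det_mul_right_comm, mul_nonsing_inv Y hYu, one_mul]
  have hψinj : Function.Injective ψ := fun g g' h => Yg.isUnit.mul_left_cancel ((Yg⁻¹).isUnit.mul_right_cancel h)
  have hψsurj : ∀ M, ψ (Y⁻¹ * M * Y) = M := fun M => by
    show Y * (Y⁻¹ * M * Y) * Y⁻¹ = M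
    rw [← mul_assoc, ← mul_assoc, mul_nonsing_inv Y hYu, one_mul, mul_assoc, mul_nonsing_inv Y hYu, mul_one]
  have hψc : ∀ g, ψ g * u = u * ψ g ↔ g * (U0 : Matrix (Σ k, Fin (d k)) (Σ k, Fin (d k)) K) = (U0 : Matrix (Σ k, Fin (d k)) (Σ k, Fin (d k)) K) * g := fun g => by
    have e : u = ψ (U0 : Matrix (Σ k, Fin (d k)) (Σ k, Fin (d k)) K) := by
      show u = Y * U0 * Y⁻¹
      rw [hYU, mul_assoc, mul_nonsing_inv Y hYu, mul_one]
    have em : ∀ a b, ψ a * ψ b = ψ (a * b) := fun a b => by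
      show Y * a * Y⁻¹ * (Y * b * Y⁻¹) = Y * (a * b) * Y⁻¹
      calc Y * a * Y⁻¹ * (Y * b * Y⁻¹) = Y * a * (Y⁻¹ * Y) * b * Y⁻¹ := by simp only [mul_assoc]
        _ = _ := by rw [nonsing_inv_mul Y hYu, mul_one]; simp only [mul_assoc]
    rw [e, em, em, hψinj.eq_iff]
  have hψh : ∀ g, cst σ (ψ g) = ψ g ↔ cst σ (H * g) = H * g := fun g => by
    have e : cst σ (H * g) = cst σ Y * cst σ (ψ g) * Y ∧ H * g = cst σ Y * ψ g * Y := by
      have e1 : H * g = cst σ Y * ψ g * Y := by
        show H * g = cst σ Y * (Y * g * Y⁻¹) * Y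
        rw [← hYH, mul_assoc (cst σ Y) (Y * g * Y⁻¹), mul_assoc (Y * g), nonsing_inv_mul Y hYu, mul_one, mul_assoc]
      exact ⟨by rw [e1, cst_mul, cst_mul, cst_cst σ hσ, mul_assoc], e1⟩
    have hcu : IsUnit (cst σ Y) := by
      rw [Matrix.isUnit_iff_isUnit_det, det_cst]; exact hYu.map σ
    rw [e.1, e.2, mul_assoc, mul_assoc, hcu.mul_right_inj, Yg.isUnit.mul_left_inj]
  have hcent : Nat.card (Cent u) =
      (Fintype.card K) ^ ((∑ k, ∑ l, min (d k) (d l)) - ∑ k, (Finset.univ.filter fun l => d l = d k).card) *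
        ∏ a ∈ Finset.range (Finset.univ.sup d + 1), Nat.card (GL (Fin (Finset.univ.filter fun l => d l = a).card) K) := by
    rw [← card_units hd]
    refine (Nat.card_eq_of_bijective (fun w : {w : Pos d → K // IsUnit (toMat w)} =>
      (⟨ψ (toMat w), by rw [hψdet]; exact ((Matrix.isUnit_iff_isUnit_det _).1 w.2).ne_zero,
        (hψc _).2 ((hcomm _).1 (toMat_commute _))⟩ : Cent u)) ⟨fun w w' h => ?_, fun g => ?_⟩).symm
    · exact Subtype.ext (toMat_injective hd (hψinj (congrArg Subtype.val h)))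
    · have h1 := (hψc (Y⁻¹ * g.1 * Y)).1 (by rw [hψsurj]; exact g.2.2)
      obtain ⟨w, hw⟩ := exists_coef hd ((hcomm _).2 h1)
      refine ⟨⟨w, ?_⟩, Subtype.ext (by show ψ (toMat w) = g.1; rw [hw, hψsurj])⟩
      rw [Matrix.isUnit_iff_isUnit_det, isUnit_iff_ne_zero, ← hψdet, hw, hψsurj]
      exact g.2.1
  have hherm : Nat.card (Herm σ u) = Nat.card {w : Pos d → K // IsUnit (toMat w) ∧ adj σ w = w} := by
    refine (Nat.card_eq_of_bijective (fun w : {w : Pos d → K // IsUnit (toMat w) ∧ adj σ w = w} =>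
      (⟨ψ (toMat w), (hψh _).2 (by rw [cst_form_toMat, w.2.2]),
        by rw [hψdet]; exact ((Matrix.isUnit_iff_isUnit_det _).1 w.2.1).ne_zero,
        (hψc _).2 ((hcomm _).1 (toMat_commute _))⟩ : Herm σ u)) ⟨fun w w' h => ?_, fun g => ?_⟩).symm
    · exact Subtype.ext (toMat_injective hd (hψinj (congrArg Subtype.val h)))
    · have h1 := (hψc (Y⁻¹ * g.1 * Y)).1 (by rw [hψsurj]; exact g.2.2.2)
      obtain ⟨w, hw⟩ := exists_coef hd ((hcomm _).2 h1)
      refine ⟨⟨w, ?_, ?_⟩, Subtype.ext (by show ψ (toMat w) = g.1; rw [hw, hψsurj])⟩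
      · rw [Matrix.isUnit_iff_isUnit_det, isUnit_iff_ne_zero, ← hψdet, hw, hψsurj]
        exact g.2.2.1
      · have h2 := (hψh (toMat w)).1 (by rw [hw, hψsurj]; exact g.2.1)
        rw [cst_form_toMat] at h2
        refine toMat_injective hd ?_
        have h3 := congrArg (fun M => H * M) h2
        simp only [← mul_assoc, hH, form_sq, one_mul] at h3
        exact h3
  have hmain := card_cent hσ ⟨ω, hω⟩ hu
  rw [hcent, hherm, card_hermitian_units hσ ⟨ω, hω⟩ hK hd, hK] at hmain
  set N := (∑ k, ∑ l, min (d k) (d l)) - ∑ k, (Finset.univ.filter fun l => d l = d k).card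
  set h : ℕ → ℕ := fun a => Nat.card (Herm σ (1 : Matrix {k : Fin t // OrderDual.toDual (d k) = OrderDual.toDual a}
            {k : Fin t // OrderDual.toDual (d k) = OrderDual.toDual a} K))
  have hblk : ∀ a, Nat.card (GL (Fin (Finset.univ.filter fun l => d l = a).card) K) =
      cardGUFormula q (Finset.univ.filter fun l => d l = a).card * h a := fun a => by
    have e : Fintype.card {k : Fin t // OrderDual.toDual (d k) = OrderDual.toDual a} =
        (Finset.univ.filter fun l => d l = a).card := by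
      rw [Fintype.card_subtype]; simp
    have h1 := card_cent (u := (1 : Matrix {k : Fin t // OrderDual.toDual (d k) = OrderDual.toDual a}
            {k : Fin t // OrderDual.toDual (d k) = OrderDual.toDual a} K)) hσ ⟨ω, hω⟩ (by rw [mul_one, cst_one])
    rw [card_uni_one hK, e] at h1
    rw [← h1]
    let ε := Fintype.equivFinOfCardEq e
    let φ := Matrix.reindexAlgEquiv K K ε
    exact (Nat.card_congr
      { toFun := fun g : Cent (1 : Matrix {k : Fin t // OrderDual.toDual (d k) = OrderDual.toDual a}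
            {k : Fin t // OrderDual.toDual (d k) = OrderDual.toDual a} K) =>
          Matrix.GeneralLinearGroup.mkOfDetNeZero (φ g.1) (by
            rw [Matrix.reindexAlgEquiv_apply, Matrix.reindex_apply, det_submatrix_equiv_self]; exact g.2.1)
        invFun := fun g : GL (Fin (Finset.univ.filter fun l => d l = a).card) K => ⟨φ.symm g.1, by
            show (φ.symm g.1).det ≠ 0
            rw [Matrix.reindexAlgEquiv_symm, Matrix.reindexAlgEquiv_apply, Matrix.reindex_apply, det_submatrix_equiv_self]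
            exact Matrix.GeneralLinearGroup.det_ne_zero g, by rw [mul_one, one_mul]⟩
        left_inv := fun g => Subtype.ext (φ.symm_apply_apply _)
        right_inv := fun g : GL (Fin (Finset.univ.filter fun l => d l = a).card) K => Units.ext (φ.apply_symm_apply g.1) }).symm
  rw [Finset.prod_congr rfl fun a _ => hblk a, Finset.prod_mul_distrib] at hmain
  have hpos : 0 < q ^ N * ∏ a ∈ Finset.range (Finset.univ.sup d + 1), h a := by
    refine Nat.mul_pos (pow_pos hq _) (Finset.prod_pos fun a _ => ?_)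
    haveI : Nonempty (Herm σ (1 : Matrix {k : Fin t // OrderDual.toDual (d k) = OrderDual.toDual a}
            {k : Fin t // OrderDual.toDual (d k) = OrderDual.toDual a} K)) :=
      ⟨⟨1, cst_one σ, by rw [det_one]; exact one_ne_zero, rfl⟩⟩
    exact Nat.card_pos
  refine Nat.eq_of_mul_eq_mul_right hpos (hmain.symm.trans ?_)
  ring

theorem main {q n : ℕ} (hK : Fintype.card K = q ^ 2) (hd : ∀ k, 1 ≤ d k) (e : (Σ k, Fin (d k)) ≃ Fin n)
    (u : ↥(Cfsg.GU n K q))
    (hu : IsConj (Matrix.reindex e e (Cfsg.jordanTypeMatrix d K)) ((u : GL (Fin n) K) : Matrix (Fin n) (Fin n) K)) :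
    Nat.card ↥(Subgroup.centralizer ({u} : Set ↥(Cfsg.GU n K q))) =
      q ^ ((∑ k, ∑ l, min (d k) (d l)) - ∑ k, (Finset.univ.filter fun l => d l = d k).card) *
        ∏ a ∈ Finset.range (Finset.univ.sup d + 1), cardGUFormula q (Finset.univ.filter fun l => d l = a).card := by
  classical
  set σ := powConj hK
  let φ := Matrix.reindexAlgEquiv K K e.symm
  set u' := φ ((u : GL (Fin n) K) : Matrix (Fin n) (Fin n) K) with hu'
  have hu1 : cst σ u' * u' = 1 := by
    rw [hu', show cst σ (φ ((u : GL (Fin n) K) : Matrix (Fin n) (Fin n) K)) = φ (cst σ _) from rfl, ← map_mul,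
      (mem_GU hK _).1 u.2, map_one]
  have hc : IsConj (1 + UnipClasses.J d) u' := by
    have h1 := φ.toMulEquiv.toMonoidHom.map_isConj hu
    convert h1 using 1
    · rw [← jordan_eq]
      ext a b
      simp [φ, Matrix.reindexAlgEquiv_apply]
    · rfl
  rw [← card_uni hK hd u' hu1 hc]
  have hback : Matrix.reindex e e u' = ((u : GL (Fin n) K) : Matrix (Fin n) (Fin n) K) := by
    ext a b
    simp [hu', φ, Matrix.reindexAlgEquiv_apply]
  rw [← card_uni_reindex e u', hback]
  refine Nat.card_congr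
    { toFun := fun g => ⟨((g.1 : GL (Fin n) K) : Matrix (Fin n) (Fin n) K), (mem_GU hK _).1 g.1.2,
        congrArg (fun z : ↥(Cfsg.GU n K q) => ((z : GL (Fin n) K) : Matrix (Fin n) (Fin n) K))
          (Subgroup.mem_centralizer_singleton_iff.1 g.2)⟩
      invFun := fun g => ⟨⟨⟨g.1, cst σ g.1, mul_eq_one_comm.1 g.2.1, g.2.1⟩, (mem_GU hK _).2 g.2.1⟩,
        Subgroup.mem_centralizer_singleton_iff.2 (Subtype.ext (Units.ext g.2.2))⟩
      left_inv := fun g => Subtype.ext (Subtype.ext (Units.ext rfl))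
      right_inv := fun g => rfl }

end Cfsg.Lib.UnipCentGU
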